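import Groth.Prelude.Def_Pi1
import Groth.Prelude.Def_EGA4b
import Groth.Agent.S1182
import Groth.Agent.SchTop.Closed
import Mathlib.AlgebraicGeometry.Morphisms.Smooth

/-! # Smooth schemes over a normal base are normal -/

universe u

open CategoryTheory Limits AlgebraicGeometry TopologicalSpace

namespace Groth.Agent.QsDescend

theorem isNormalScheme_of_smooth {S Z : Scheme.{u}} (hS : Pi1.IsNormalScheme S) (f : Z ⟶ S)
    [Smooth f] : Pi1.IsNormalScheme Z := fun z => by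
  obtain ⟨_, ⟨(V : S.Opens), hV, rfl⟩, hzV, -⟩ :=
    S.isBasis_affineOpens.exists_subset_of_mem_open (Set.mem_univ (f z)) isOpen_univ
  obtain ⟨_, ⟨(U : Z.Opens), hU, rfl⟩, hzU, hUV⟩ :=
    Z.isBasis_affineOpens.exists_subset_of_mem_open (show z ∈ f ⁻¹ᵁ V from hzV) (f ⁻¹ᵁ V).isOpen
  letI := (f.appLE V U hUV).hom.toAlgebra
  haveI : Algebra.Smooth Γ(S, V) Γ(Z, U) := f.smooth_appLE hV hU hUV
  have hA : EGA4.IsNormalRing Γ(S, V) := fun p _ => by
    have hx : hV.fromSpec ⟨p, inferInstance⟩ ∈ V := hV.range_fromSpec.subset (Set.mem_range_self _)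
    obtain ⟨e⟩ := Groth.Agent.SchTop.nonempty_stalk_equiv hV hx
    rw [show hV.primeIdealOf ⟨_, hx⟩ = ⟨p, inferInstance⟩ from
      hV.fromSpec.isOpenEmbedding.injective (hV.fromSpec_primeIdealOf _)] at e
    obtain ⟨hd, hn⟩ := hS (hV.fromSpec ⟨p, inferInstance⟩)
    exact ⟨MulEquiv.isDomain_iff e.toMulEquiv |>.1 hd, haveI := hn; IsIntegrallyClosed.of_equiv e⟩
  obtain ⟨hd, hn⟩ := (S1182.result Γ(S, V) Γ(Z, U)).1 hA (hU.primeIdealOf ⟨z, hzU⟩).asIdeal
  obtain ⟨e⟩ := Groth.Agent.SchTop.nonempty_stalk_equiv hU hzU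
  exact ⟨MulEquiv.isDomain_iff e.toMulEquiv |>.2 hd, haveI := hn; IsIntegrallyClosed.of_equiv e.symm⟩

end Groth.Agent.QsDescend
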