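import Mathlib.FieldTheory.Galois.Basic
import Mathlib.FieldTheory.PrimitiveElement
import Mathlib.FieldTheory.IsAlgClosed.AlgebraicClosure
import Mathlib.RingTheory.TensorProduct.Finite
import Mathlib.LinearAlgebra.Dimension.Constructions

/-! # When `K ⊗[k] L` is not a field, `K` contains a nontrivial subextension of `L` -/

universe u

open scoped TensorProduct
open Polynomial IntermediateField

namespace Groth.Agent.QsDescend

variable {k : Type u} [Field k] {K : Type u} [Field K] [Algebra k K]
  {L : Type u} [Field L] [Algebra k L]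

theorem exists_intermediateField [FiniteDimensional k L] [IsGalois k L]
    (h : ¬ IsField (K ⊗[k] L)) : ∃ F : IntermediateField k L, F ≠ ⊥ ∧ Nonempty (F →ₐ[k] K) := by
  let M := AlgebraicClosure K
  let φ : L →ₐ[k] M := IsAlgClosed.lift
  let inK : K →ₐ[k] M := IsScalarTower.toAlgHom k K M
  let F : IntermediateField k L := inK.fieldRange.comap φ
  have hψ : Nonempty (F →ₐ[k] K) := by
    let e : K ≃ₐ[k] inK.range := AlgEquiv.ofInjectiveField inK
    exact ⟨e.symm.toAlgHom.comp ((φ.comp F.val).codRestrict inK.range
      fun x => (x.2 : φ x ∈ inK.fieldRange))⟩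
  refine ⟨F, fun hF => h ?_, hψ⟩
  obtain ⟨θ, hθ⟩ := Field.exists_primitive_element k L
  have hint : IsIntegral k θ := Algebra.IsIntegral.isIntegral θ
  set f := minpoly k θ
  set θ' := φ θ
  have hintK : IsIntegral K θ' := (hint.map φ).tower_top
  set g := minpoly K θ'
  have hgf : g ∣ f.map (algebraMap k K) := minpoly.dvd K θ' (by
    rw [aeval_map_algebraMap, aeval_algHom_apply, minpoly.aeval, map_zero])
  have hfL : (f.map (algebraMap k L)).Splits := Normal.splits inferInstance θ
  -- coefficients of `g` lie in the image of `L`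
  have hgM : g.map (algebraMap K M) ∈ Polynomial.lifts (φ : L →+* M) := by
    have hfM : ((f.map (algebraMap k L)).map (φ : L →+* M)) = (f.map (algebraMap k K)).map (algebraMap K M) := by
      rw [Polynomial.map_map, Polynomial.map_map, AlgHom.comp_algebraMap, ← IsScalarTower.algebraMap_eq]
    have hf0 : (f.map (algebraMap k K)).map (algebraMap K M) ≠ 0 :=
      Polynomial.map_ne_zero (Polynomial.map_ne_zero (minpoly.ne_zero hint))
    refine (Splits.of_dvd (hfM ▸ hfL.map _) hf0 (Polynomial.map_dvd _ hgf)).mem_lift_of_roots_mem_range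
      ((minpoly.monic hintK).map _) _ fun a ha => ?_
    have ha' := Multiset.mem_of_le (Polynomial.roots.le_of_dvd hf0 (Polynomial.map_dvd _ hgf)) ha
    rw [← hfM, hfL.roots_map, Multiset.mem_map] at ha'
    obtain ⟨b, -, rfl⟩ := ha'
    exact ⟨b, rfl⟩
  have hgk : g ∈ Polynomial.lifts (algebraMap k K) := by
    rw [Polynomial.lifts_iff_coeff_lifts]
    intro n
    obtain ⟨b, hb⟩ := (Polynomial.lifts_iff_coeff_lifts _).1 hgM n
    rw [coeff_map] at hb
    have hbF : b ∈ F := ⟨g.coeff n, hb.symm⟩
    rw [hF, IntermediateField.mem_bot] at hbF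
    obtain ⟨c, rfl⟩ := hbF
    refine ⟨c, (algebraMap K M).injective ?_⟩
    rw [← hb, ← IsScalarTower.algebraMap_apply]
    exact (φ.commutes c).symm
  obtain ⟨h', hh', hdeg, hmon⟩ := Polynomial.lifts_and_natDegree_eq_and_monic hgk (minpoly.monic hintK)
  have hdegle : f.natDegree ≤ g.natDegree := by
    have h0 : aeval θ h' = 0 := φ.injective (by
      show φ (aeval θ h') = φ 0
      rw [map_zero, ← Polynomial.aeval_algHom_apply φ, ← aeval_map_algebraMap K, hh']
      exact minpoly.aeval K θ')
    rw [← hdeg]
    exact natDegree_le_of_dvd (minpoly.dvd k θ h0) hmon.ne_zero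
  -- the multiplication map is injective
  let μ : K ⊗[k] L →ₐ[K] M :=
    Algebra.TensorProduct.lift (Algebra.ofId K M) φ (fun _ _ => Commute.all _ _)
  haveI : Module.Finite K (K ⊗[k] L) := inferInstance
  have hθμ : θ' ∈ μ.range := ⟨1 ⊗ₜ θ, by simp [μ, θ']⟩
  have hinj : Function.Injective μ.toLinearMap := by
    rw [← LinearMap.ker_eq_bot, ← Submodule.finrank_eq_zero]
    have h1 := LinearMap.finrank_range_add_finrank_ker μ.toLinearMap
    have h2 : g.natDegree ≤ Module.finrank K (LinearMap.range μ.toLinearMap) := by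
      rw [← IntermediateField.adjoin.finrank hintK]
      refine LinearMap.finrank_le_finrank_of_injective (f := Submodule.inclusion
        (show (K⟮θ'⟯).toSubalgebra.toSubmodule ≤ LinearMap.range μ.toLinearMap from fun x hx => ?_))
        (Submodule.inclusion_injective _)
      rw [IntermediateField.adjoin_simple_toSubalgebra_of_isAlgebraic hintK.isAlgebraic] at hx
      exact (Algebra.adjoin_le (by simpa using hθμ) : Algebra.adjoin K {θ'} ≤ μ.range) hx
    have h3 : Module.finrank K (K ⊗[k] L) = f.natDegree := by
      rw [Module.finrank_baseChange, ← IntermediateField.adjoin.finrank hint, hθ, IntermediateField.finrank_top']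
    omega
  haveI : IsDomain (K ⊗[k] L) := Function.Injective.isDomain μ.toRingHom hinj
  exact isField_of_isIntegral_of_isField' (Field.toIsField K)

end Groth.Agent.QsDescend
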