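import Groth.Agent.QsDescend.Field
import Groth.Prelude.Def_Pi1
import Groth.Prelude.Def_CurvBase
import Mathlib.AlgebraicGeometry.Morphisms.Etale
import Mathlib.AlgebraicGeometry.Morphisms.UniversallyOpen

/-! # A normal variety which becomes reducible over a Galois extension lives over a subfield -/

universe u

open AlgebraicGeometry CategoryTheory Limits TopologicalSpace
open scoped TensorProduct

namespace Groth.Agent.QsDescend

section

variable {X : Scheme.{u}} [IsIntegral X]

/-- A rational function defined at every point of a nonempty open is a section. -/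
theorem exists_section_of_forall (V : X.Opens) (hη : genericPoint X ∈ V) (v : X.functionField)
    (h : ∀ z : X, z ∈ V → ∃ a : X.presheaf.stalk z, algebraMap (X.presheaf.stalk z) X.functionField a = v) :
    ∃ s : Γ(X, V), X.presheaf.germ V _ hη s = v := by
  have hloc : ∀ z : V, ∃ (W : X.Opens) (_ : z.1 ∈ W) (_ : W ≤ V) (t : Γ(X, W)),
      ∀ h' : genericPoint X ∈ W, X.presheaf.germ W _ h' t = v := fun z => by
    obtain ⟨a, ha⟩ := h z.1 z.2
    obtain ⟨W, hzW, t, rfl⟩ := X.presheaf.exists_germ_eq a
    refine ⟨W ⊓ V, ⟨hzW, z.2⟩, inf_le_right, X.presheaf.map (homOfLE inf_le_left).op t, fun h' => ?_⟩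
    rw [TopCat.Presheaf.germ_res_apply]
    refine Eq.trans ?_ ha
    exact (TopCat.Presheaf.germ_stalkSpecializes_apply X.presheaf hzW
      ((genericPoint_spec X).specializes (Set.mem_univ z.1)) t).symm
  choose W hzW hWV t ht using hloc
  have hη' : ∀ z, genericPoint X ∈ W z := fun z =>
    ((genericPoint_spec X).mem_open_set_iff (W z).isOpen).2 ⟨_, trivial, hzW z⟩
  obtain ⟨s, hs, -⟩ := X.sheaf.existsUnique_gluing' W V (fun z => homOfLE (hWV z))
    (fun z hz => Opens.mem_iSup.2 ⟨⟨z, hz⟩, hzW _⟩) t fun a b => by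
      refine germ_injective_of_isIntegral (X := X) (genericPoint X) (⟨hη' a, hη' b⟩ : genericPoint X ∈ W a ⊓ W b) ?_
      refine ((TopCat.Presheaf.germ_res_apply _ _ _ _ _).trans (ht a (hη' a))).trans ?_
      exact ((TopCat.Presheaf.germ_res_apply _ _ _ _ _).trans (ht b (hη' b))).symm
  refine ⟨s, ?_⟩
  rw [← ht ⟨_, hη⟩ (hη' _), ← hs ⟨_, hη⟩]
  exact (TopCat.Presheaf.germ_res_apply X.presheaf (homOfLE (hWV _)) _ (hη' _) s).symm

end

variable {k : Type u} [Field k] {X : Scheme.{u}} [X.Over (Spec (CommRingCat.of k))] [IsIntegral X]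

/-- constants. -/
noncomputable def iota : CommRingCat.of k ⟶ Γ(X, ⊤) :=
  (Scheme.ΓSpecIso (CommRingCat.of k)).inv ≫ (X ↘ Spec (CommRingCat.of k)).appTop

theorem toSpecΓ_iota : X.toSpecΓ ≫ Spec.map (iota (k := k)) = X ↘ Spec (CommRingCat.of k) := by
  rw [iota, Spec.map_comp, ← Category.assoc, ← Scheme.toSpecΓ_naturality, Category.assoc,
    ← SpecMap_ΓSpecIso_hom, ← Spec.map_comp, Iso.inv_hom_id, Spec.map_id, Category.comp_id]

theorem exists_factor (hX : Pi1.IsNormalScheme X) (L : Type u) [Field L] [Algebra k L]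
    [FiniteDimensional k L] [IsGalois k L] (hred : ¬ IrreducibleSpace ↥(Curv2.bc k X L)) :
    ∃ F : IntermediateField k L, F ≠ ⊥ ∧
      ∃ g : X ⟶ Spec (CommRingCat.of F),
        g ≫ Spec.map (CommRingCat.ofHom (algebraMap k F)) = X ↘ Spec (CommRingCat.of k) := by
  let η := genericPoint X
  let Kη := X.residueField η
  let germη : Γ(X, ⊤) ⟶ X.functionField := X.presheaf.germ ⊤ η trivial
  letI : Algebra k Kη := (iota (k := k) ≫ germη ≫ X.residue η).hom.toAlgebra
  have hbase : X.fromSpecResidueField η ≫ (X ↘ Spec (CommRingCat.of k)) =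
      Spec.map (CommRingCat.ofHom (algebraMap k Kη)) := by
    rw [← toSpecΓ_iota, Scheme.fromSpecResidueField, Category.assoc, ← Category.assoc (X.fromSpecStalk η),
      Scheme.fromSpecStalk_toSpecΓ, ← Spec.map_comp, ← Spec.map_comp]
    congr 1
  have hnf : ¬ IsField (Kη ⊗[k] L) := by
    intro hK
    apply hred
    let p := Curv2.bcFst k X L
    haveI : Flat (Spec.map (CommRingCat.ofHom (algebraMap k L))) := by
      rw [Flat.SpecMap_iff]; exact RingHom.flat_algebraMap_iff.2 inferInstance
    haveI : Flat p := inferInstance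
    have hsub : (p ⁻¹' {η}).Subsingleton := by
      rw [← Scheme.range_fromSpecResidueField η, ← Scheme.Pullback.range_fst]
      letI := hK.toField
      let e : pullback p (X.fromSpecResidueField η) ≅ Spec (CommRingCat.of (Kη ⊗[k] L)) :=
        pullbackSymmetry _ _ ≪≫ pullbackRightPullbackFstIso _ _ _ ≪≫
          pullback.congrHom hbase rfl ≪≫ pullbackSpecIso k Kη L
      haveI : Subsingleton (PrimeSpectrum (Kη ⊗[k] L)) := inferInstance
      haveI : Subsingleton ↥(pullback p (X.fromSpecResidueField η)) :=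
        e.hom.homeomorph.toEquiv.subsingleton
      rw [← Set.image_univ]
      exact Set.subsingleton_univ.image _
    haveI : Surjective (Spec.map (CommRingCat.ofHom (algebraMap k L))) :=
      ⟨fun y => ⟨(default : PrimeSpectrum L), Subsingleton.elim _ _⟩⟩
    obtain ⟨y, hy⟩ := p.surjective η
    refine (irreducibleSpace_def _).2 ?_
    have hcl : closure {y} = Set.univ := by
      refine Set.eq_univ_of_forall fun z => ?_
      rw [← specializes_iff_mem_closure]
      obtain ⟨z', hz', hp⟩ := (Flat.generalizingMap p) ((genericPoint_spec X).specializes (Set.mem_univ (p z)))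
      rwa [hsub hy hp]
    rw [Set.top_eq_univ, ← hcl]
    exact isIrreducible_singleton.closure
  obtain ⟨F, hF, ⟨ψ⟩⟩ := exists_intermediateField hnf
  refine ⟨F, hF, ?_⟩
  have hrb : Function.Bijective (X.residue η).hom :=
    ⟨RingHom.injective (R := X.functionField) (X.residue η).hom, X.residue_surjective η⟩
  let e : X.functionField ≃+* Kη := RingEquiv.ofBijective (X.residue η).hom hrb
  have hmem : ∀ a : F, ∃ s : Γ(X, ⊤), germη s = e.symm (ψ a) := fun a => by
    refine exists_section_of_forall (X := X) ⊤ trivial _ fun z _ => ?_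
    haveI := (hX z).2
    obtain ⟨P, hPm, hP0⟩ := (Algebra.IsIntegral.isIntegral (R := k) a : IsIntegral k a)
    let c : k →+* X.presheaf.stalk z := (iota (k := k) ≫ X.presheaf.germ ⊤ z trivial).hom
    have hc : ((e : X.functionField →+* Kη).comp ((algebraMap (X.presheaf.stalk z) X.functionField).comp c)) =
        algebraMap k Kη := by
      ext t
      show X.residue η (algebraMap (X.presheaf.stalk z) X.functionField
        (X.presheaf.germ ⊤ z trivial (iota (k := k) t))) = _
      haveI : Nonempty (⊤ : X.Opens) := ⟨⟨z, trivial⟩⟩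
      rw [X.algebraMap_germ_eq_germToFunctionField (U := ⊤) trivial]
      rfl
    refine (IsIntegrallyClosed.isIntegral_iff (x := e.symm (ψ a))).1 ⟨P.map c, hPm.map _, ?_⟩
    apply e.injective
    rw [map_zero, Polynomial.eval₂_map, ← RingEquiv.coe_toRingHom, Polynomial.hom_eval₂, RingEquiv.coe_toRingHom,
      RingEquiv.apply_symm_apply]
    erw [hc]
    rw [← ψ.comp_algebraMap, ← AlgHom.coe_toRingHom, ← Polynomial.hom_eval₂, hP0, map_zero]
  choose s hs using hmem
  have hinj : Function.Injective germη := germ_injective_of_isIntegral (X := X) (U := ⊤) η trivial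
  let φ : F →+* Γ(X, ⊤) :=
    { toFun := s
      map_one' := hinj (by rw [hs, map_one, map_one, map_one])
      map_mul' := fun a b => hinj (by rw [hs, map_mul, map_mul, map_mul, hs, hs])
      map_zero' := hinj (by rw [hs, map_zero, map_zero, map_zero])
      map_add' := fun a b => hinj (by rw [hs, map_add, map_add, map_add, hs, hs]) }
  have hφ : CommRingCat.ofHom (algebraMap k F) ≫ CommRingCat.ofHom φ = iota (k := k) (X := X) := by
    ext t
    apply hinj
    show germη (s (algebraMap k F t)) = _
    rw [hs, ψ.commutes]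
    exact e.symm_apply_apply _
  refine ⟨X.toSpecΓ ≫ Spec.map (CommRingCat.ofHom φ), ?_⟩
  rw [Category.assoc, ← Spec.map_comp, hφ, toSpecΓ_iota]

end Groth.Agent.QsDescend
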